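import Cfsg.Agent.Lib.CharNormal.OddSquares.Inequality
import Cfsg.Agent.Lib.Blocks.Nilpotent
import Cfsg.Agent.Lib.Blocks.GaloisInv
import Cfsg.Agent.Lib.Transfer.Tate
import Cfsg.Agent.Lib.Cores.Basic
import Cfsg.Agent.Lib.Solvable.Basic
import Cfsg.Agent.Lib.Char.Restrict
import Cfsg.Agent.Lib.PGroup.Basic

/-!
# The equality case: a normal complement to the Sylow normalizer

If the characters of odd degree restrict irreducibly to `N = N_G(P)`, the intersection `R` of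
the kernels of those with `P` in the kernel meets `N` in `P`, so Burnside and Tate give a normal
complement of odd order. Conversely all characters of odd degree are trivial on such a
complement, as `P` fixes only its identity.
-/

set_option autoImplicit false

namespace CfsgLib.OddSquares

open CfsgLib.Char CfsgLib.CharNormal CfsgLib.RealOdd
open scoped ComplexConjugate commutatorElement

variable {G : Type*} [Group G] [Finite G] (P : Sylow 2 G)

/-- Odd degree is invariant: a fixed-point-free action forces the kernel to contain `K`. -/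
theorem trivial_of_fixed_free [Fintype G] (K : Subgroup G) [hK : K.Normal] [Fintype K]
    (hodd : Odd (Nat.card K))
    (hfix : ∀ k ∈ K, (∀ a ∈ (P : Subgroup G), a * k * a⁻¹ = k) → k = 1)
    {χ : G → ℂ} (hχ : Cfsg.IsIrrCharacter G χ) (hd : OddDeg χ) : ∀ k ∈ K, χ k = χ 1 := by
  classical
  have : Fact (Nat.Prime 2) := ⟨Nat.prime_two⟩
  obtain ⟨M, hM⟩ := CfsgLib.Blocks.exists_isPModular Nat.prime_two
  have : M.IsMaximal := hM.2.1
  have : CharP (CfsgLib.Blocks.Res M) 2 := CfsgLib.Blocks.res_charP M hM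
  letI : MulAction (P : Subgroup G) K :=
    { smul := fun a k => ⟨a * k * (a : G)⁻¹, hK.conj_mem k k.2 a⟩
      one_smul := fun k => Subtype.ext (by show (1 : G) * k * (1 : G)⁻¹ = k; group)
      mul_smul := fun a b k => Subtype.ext (by
        show ((a : G) * b) * k * ((a : G) * b)⁻¹ = a * (b * k * (b : G)⁻¹) * (a : G)⁻¹
        group) }
  let f : K → CfsgLib.Blocks.Res M := fun k => CfsgLib.Blocks.res M ⟨χ k,
    CfsgLib.Blocks.algInt_le_locRing M (char_isIntegral (isCharacter_of_isIrr hχ) k)⟩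
  have hsum := CfsgLib.Blocks.sum_eq_sum_fixedPoints (p := 2) P.isPGroup' f fun a k => by
    simp only [f]
    congr 1
    exact Subtype.ext (isClassFunction_of_isIrr hχ (k : G) (a : G))
  have hfilt : (Finset.univ.filter (· ∈ MulAction.fixedPoints (P : Subgroup G) K)) = {1} := by
    ext k
    simp only [Finset.mem_filter, Finset.mem_univ, true_and, Finset.mem_singleton,
      MulAction.mem_fixedPoints]
    constructor
    · intro h
      exact Subtype.ext (hfix k k.2 fun a ha => congrArg Subtype.val (h ⟨a, ha⟩))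
    · rintro rfl a
      exact Subtype.ext (by show (a : G) * 1 * (a : G)⁻¹ = 1; group)
  rw [hfilt, Finset.sum_singleton] at hsum
  obtain ⟨m, hm⟩ := classInner_char_nat (isCharacter_res K (isCharacter_of_isIrr hχ))
    (isCharacter_one (G := K))
  obtain ⟨n, hn, hn1⟩ := hd
  have htot : ∑ k : K, χ k = ((Nat.card K * m : ℕ) : ℂ) := by
    rw [Nat.cast_mul, ← hm, classInner_def, ← mul_assoc,
      mul_inv_cancel₀ (by exact_mod_cast Nat.card_pos.ne' : (Nat.card K : ℂ) ≠ 0), one_mul]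
    simp
  have h2 : ((Nat.card K * m : ℕ) : CfsgLib.Blocks.Res M) = (n : CfsgLib.Blocks.Res M) := by
    have h3 : ∑ k : K, f k = ((Nat.card K * m : ℕ) : CfsgLib.Blocks.Res M) := by
      rw [← map_natCast (CfsgLib.Blocks.res M), ← map_sum]
      congr 1
      exact Subtype.ext (by rw [AddSubmonoidClass.coe_finsetSum]; simpa using htot)
    rw [← h3, hsum, ← map_natCast (CfsgLib.Blocks.res M)]
    simp only [f]
    congr 1
    exact Subtype.ext (by simpa using hn1)
  rw [CharP.natCast_eq_natCast (CfsgLib.Blocks.Res M) 2] at h2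
  refine res_eq_degree_of_constituent_one K hχ ?_
  rw [hm, Nat.cast_ne_zero]
  rintro rfl
  rw [mul_zero] at h2
  have := Nat.odd_iff.mp hn
  simp [Nat.ModEq, this] at h2

theorem eq_of_le_der_quotient {H : Type*} [Group H] [Finite H] (D : Subgroup H) [D.Normal] {h : H}
    (hh : ∀ β : Cfsg.IrrCharacter (H ⧸ D), (β : H ⧸ D → ℂ) h = (β : H ⧸ D → ℂ) 1) : h ∈ D := by
  classical
  have := Fintype.ofFinite (H ⧸ D)
  rw [← QuotientGroup.eq_one_iff (N := D)]
  by_contra hne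
  have h1 := sum_degree_mul_apply (h : H ⧸ D)
  rw [if_neg hne] at h1
  simp only [hh, ← sq] at h1
  rw [sum_degree_sq] at h1
  exact Nat.card_pos.ne' (Nat.cast_eq_zero.mp h1)

open scoped Classical in
theorem sum_eq_of_complement [Fintype G] [Fintype (nor P)] (K : Subgroup G) [hK : K.Normal]
    (hKN : K ⊓ nor P = ⊥) (hKN' : K ⊔ nor P = ⊤) :
    Nat.card (nor P) = Nat.card (commutator (P : Subgroup G)) *
      ∑ χ ∈ Finset.univ.filter fun χ : Cfsg.IrrCharacter G =>
        ¬ 2 ∣ Cfsg.charDegree (χ : G → ℂ), Cfsg.charDegree (χ : G → ℂ) ^ 2 := by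
  have := Fintype.ofFinite K
  have := Fintype.ofFinite (G ⧸ K)
  have hodd : Odd (Nat.card K) := by
    have h1 : (nor P).index = Nat.card K :=
      (Subgroup.isComplement'_of_disjoint_and_mul_eq_univ (disjoint_iff.mpr hKN)
        (by rw [← Subgroup.normal_mul, hKN', Subgroup.coe_top])).index_eq_card
    rw [← h1, ← Nat.not_even_iff_odd, even_iff_two_dvd]
    exact fun h => P.not_dvd_index (h.trans (Subgroup.index_dvd_of_le Subgroup.le_normalizer))
  have hfix : ∀ k ∈ K, (∀ a ∈ (P : Subgroup G), a * k * a⁻¹ = k) → k = 1 := by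
    intro k hk h
    have : k ∈ K ⊓ nor P := ⟨hk, CfsgLib.Solvable.mem_normalizer_of_conj_mem fun a ha => by
      have h1 : k * a * k⁻¹ = a := by
        have := h a ha
        calc k * a * k⁻¹ = (a * k * a⁻¹) * a * k⁻¹ := by rw [this]
          _ = a := by group
      rwa [h1]⟩
    rwa [hKN, Subgroup.mem_bot] at this
  let e : nor P →* G ⧸ K := (QuotientGroup.mk' K).comp (nor P).subtype
  have he : Function.Bijective e := by
    constructor
    · rw [injective_iff_map_eq_one]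
      intro n hn
      have : (n : G) ∈ K ⊓ nor P := ⟨(QuotientGroup.eq_one_iff _).mp hn, n.2⟩
      rw [hKN, Subgroup.mem_bot] at this
      exact Subtype.ext this
    · intro q
      obtain ⟨g, rfl⟩ := QuotientGroup.mk_surjective q
      obtain ⟨k, hk, n, hn, rfl⟩ :=
        Subgroup.mem_sup_of_normal_left.mp (hKN' ▸ Subgroup.mem_top g : g ∈ K ⊔ nor P)
      refine ⟨⟨n, hn⟩, ?_⟩
      show (n : G ⧸ K) = _
      rw [QuotientGroup.mk_mul, (QuotientGroup.eq_one_iff k).mpr hk, one_mul]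
  let ee : nor P ≃* G ⧸ K := MulEquiv.ofBijective e he
  set Ω := Finset.univ.filter fun χ : Cfsg.IrrCharacter G =>
    ¬ 2 ∣ Cfsg.charDegree (χ : G → ℂ)
  have hdesc : ∀ χ ∈ Ω, ∃ β : G ⧸ K → ℂ, Cfsg.IsIrrCharacter (G ⧸ K) β ∧
      β ∘ QuotientGroup.mk = (χ : G → ℂ) := fun χ hχ => exists_irr_eq_comp_mk' K χ.2
    (trivial_of_fixed_free P K hodd hfix χ.2 ((oddDeg_iff χ).mpr (Finset.mem_filter.mp hχ).2))
  have hres : ∀ χ ∈ Ω, Cfsg.IsIrrCharacter (nor P) (fun n : nor P => (χ : G → ℂ) n) := by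
    intro χ hχ
    obtain ⟨β, hβ, hβe⟩ := hdesc χ hχ
    rw [← hβe]
    exact isIrr_comp_mulEquiv hβ ee
  rw [← sum_sq_trivial_der P]
  congr 1
  refine (Finset.sum_bij (fun χ hχ => (⟨_, hres χ hχ⟩ : Cfsg.IrrCharacter (nor P)))
    (fun χ hχ => ?_) (fun χ hχ χ' hχ' h => ?_) (fun θ hθ => ?_) (fun χ hχ => rfl)).symm
  · refine Finset.mem_filter.mpr ⟨Finset.mem_univ _, trivial_commutator_of_odd (syl P)
      (syl_isPGroup P) (hres χ hχ) ?_⟩
    obtain ⟨n, hn, hn1⟩ := (oddDeg_iff χ).mpr (Finset.mem_filter.mp hχ).2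
    exact ⟨n, hn, hn1⟩
  · obtain ⟨β, -, hβe⟩ := hdesc χ hχ
    obtain ⟨β', -, hβe'⟩ := hdesc χ' hχ'
    have h1 : β = β' := by
      funext q
      obtain ⟨n, rfl⟩ := he.2 q
      have h2 := congrFun (congrArg Subtype.val h) n
      dsimp only at h2
      rw [← hβe, ← hβe'] at h2
      exact h2
    exact Subtype.ext (by rw [← hβe, ← hβe', h1])
  · obtain ⟨-, hθ'⟩ := Finset.mem_filter.mp hθ
    have hβ : Cfsg.IsIrrCharacter (G ⧸ K) ((θ : nor P → ℂ) ∘ ee.symm) :=
      isIrr_comp_mulEquiv θ.2 ee.symm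
    refine ⟨⟨_, isIrr_comp_mk' K hβ⟩, Finset.mem_filter.mpr ⟨Finset.mem_univ _, ?_⟩,
      Subtype.ext (funext fun n => ?_)⟩
    · rw [← oddDeg_iff]
      obtain ⟨m, hm, hm1⟩ := oddDeg_of_trivial_der P θ hθ'
      exact ⟨m, hm, by simpa using hm1⟩
    · show (θ : nor P → ℂ) (ee.symm (ee n)) = (θ : nor P → ℂ) n
      rw [ee.symm_apply_apply]

theorem exists_complement [Fintype G] [Fintype (nor P)]
    (hres : ∀ χ : Cfsg.IrrCharacter G, ¬ 2 ∣ Cfsg.charDegree (χ : G → ℂ) →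
      ∃ θ : Cfsg.IrrCharacter (nor P),
        (∀ n ∈ der P, (θ : nor P → ℂ) n = (θ : nor P → ℂ) 1) ∧
        ∀ n : nor P, (χ : G → ℂ) n = (θ : nor P → ℂ) n) :
    ∃ W : Subgroup G, W.Normal ∧ W ⊓ nor P = ⊥ ∧ W ⊔ nor P = ⊤ := by
  classical
  have : Fact (Nat.Prime 2) := ⟨Nat.prime_two⟩
  -- every character of `N` trivial on `P'` is the restriction of one of odd degree
  have hext : ∀ θ : Cfsg.IrrCharacter (nor P),
      (∀ n ∈ der P, (θ : nor P → ℂ) n = (θ : nor P → ℂ) 1) →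
      ∃ χ : Cfsg.IrrCharacter G, ¬ 2 ∣ Cfsg.charDegree (χ : G → ℂ) ∧
        ∀ n : nor P, (χ : G → ℂ) n = (θ : nor P → ℂ) n := by
    intro θ hθ
    obtain ⟨χ, hd, h⟩ := exists_over_nor P θ hθ
    obtain ⟨θ', -, hθ'⟩ := hres χ hd
    refine ⟨χ, hd, fun n => ?_⟩
    rw [show (fun n : nor P => (χ : G → ℂ) n) = (θ' : nor P → ℂ) from funext hθ'] at h
    by_cases he : (θ' : nor P → ℂ) = (θ : nor P → ℂ)
    · rw [hθ', he]
    · exact absurd (classInner_irr_ne θ'.2 θ.2 he) h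
  let K : Subgroup G := ⨅ χ : {χ : Cfsg.IrrCharacter G // ¬ 2 ∣ Cfsg.charDegree (χ : G → ℂ)},
    charKer (isCharacter_of_isIrr χ.1.2)
  let R : Subgroup G := ⨅ χ : {χ : Cfsg.IrrCharacter G // ¬ 2 ∣ Cfsg.charDegree (χ : G → ℂ) ∧
    ∀ a ∈ (P : Subgroup G), (χ : G → ℂ) a = (χ : G → ℂ) 1}, charKer (isCharacter_of_isIrr χ.1.2)
  have hKn : K.Normal := Subgroup.normal_iInf_normal fun χ => charKer_normal _
  have hRn : R.Normal := Subgroup.normal_iInf_normal fun χ => charKer_normal _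
  have hKmem : ∀ g, g ∈ K ↔ ∀ χ : Cfsg.IrrCharacter G, ¬ 2 ∣ Cfsg.charDegree (χ : G → ℂ) →
      (χ : G → ℂ) g = (χ : G → ℂ) 1 := fun g => by
    simp only [K, Subgroup.mem_iInf, mem_charKer, Subtype.forall]
  have hRmem : ∀ g, g ∈ R ↔ ∀ χ : Cfsg.IrrCharacter G, ¬ 2 ∣ Cfsg.charDegree (χ : G → ℂ) →
      (∀ a ∈ (P : Subgroup G), (χ : G → ℂ) a = (χ : G → ℂ) 1) →
      (χ : G → ℂ) g = (χ : G → ℂ) 1 := fun g => by
    simp only [R, Subgroup.mem_iInf, mem_charKer, Subtype.forall, and_imp]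
  have hKR : K ≤ R := fun g hg => (hRmem g).mpr fun χ h _ => (hKmem g).mp hg χ h
  have hPR : (P : Subgroup G) ≤ R := fun a ha => (hRmem a).mpr fun χ _ h => h a ha
  have hKN : ∀ n : nor P, (n : G) ∈ K → n ∈ der P := by
    intro n hn
    refine eq_of_le_der_quotient (der P) fun β => ?_
    obtain ⟨χ, hd, hχ⟩ := hext ⟨_, isIrr_comp_mk' (der P) β.2⟩
      fun m hm => comp_mk'_const _ hm
    have h1 := (hKmem _).mp hn χ hd
    rw [hχ n] at h1
    exact h1.trans ((hχ 1).trans (by simp))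
  have hKP : K ⊓ (P : Subgroup G) ≤ ⁅(P : Subgroup G), (P : Subgroup G)⁆ := by
    rintro x ⟨hxK, hxP⟩
    have h1 := hKN ⟨x, Subgroup.le_normalizer hxP⟩ hxK
    exact map_der P ▸ ⟨_, h1, rfl⟩
  have hRN : R ⊓ nor P ≤ (P : Subgroup G) := by
    rintro x ⟨hxR, hxN⟩
    have hsn := syl_normal P
    have h1 : (⟨x, hxN⟩ : nor P) ∈ syl P := eq_of_le_der_quotient (syl P) fun β => by
      obtain ⟨χ, hd, hχ⟩ := hext ⟨_, isIrr_comp_mk' (syl P) β.2⟩
        fun m hm => comp_mk'_const _ (Subgroup.commutator_le_left _ _ hm)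
      have h1 := (hRmem x).mp hxR χ hd fun a ha => by
        have h2 := hχ ⟨a, Subgroup.le_normalizer ha⟩
        have h3 := hχ 1
        rw [Subgroup.coe_one] at h3
        rw [h3]
        exact h2.trans (comp_mk'_const _ (show (⟨a, _⟩ : nor P) ∈ syl P from ha))
      rw [show x = ((⟨x, hxN⟩ : nor P) : G) from rfl, hχ] at h1
      exact h1.trans ((hχ 1).trans (by simp))
    exact h1
  -- the image of `P` in `R ⧸ K` is an abelian self-normalizing Sylow subgroup
  let S : Sylow 2 R := P.subtype hPR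
  have hS : (S : Subgroup R) = (P : Subgroup G).subgroupOf R := P.coe_subtype hPR
  let KR : Subgroup R := K.subgroupOf R
  have hKRn : KR.Normal := hKn.subgroupOf R
  let π := QuotientGroup.mk' KR
  let S' : Sylow 2 (R ⧸ KR) := S.mapSurjective (QuotientGroup.mk'_surjective KR)
  have hS' : (S' : Subgroup (R ⧸ KR)) = (S : Subgroup R).map π := rfl
  have hab : IsMulCommutative S' := ⟨⟨by
    rintro ⟨_, ha⟩ ⟨_, hb⟩
    obtain ⟨a, ha', rfl⟩ := (hS' ▸ ha :)
    obtain ⟨b, hb', rfl⟩ := (hS' ▸ hb :)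
    refine Subtype.ext ?_
    show π a * π b = π b * π a
    rw [← commutatorElement_eq_one_iff_mul_comm, ← map_commutatorElement]
    refine (QuotientGroup.eq_one_iff _).mpr ?_
    rw [hS] at ha' hb'
    show ((⁅a, b⁆ : R) : G) ∈ K
    have haN : ((a : G)) ∈ nor P := Subgroup.le_normalizer ha'
    have hbN : ((b : G)) ∈ nor P := Subgroup.le_normalizer hb'
    refine (hKmem _).mpr fun χ hd => ?_
    obtain ⟨θ, hθ, hχ⟩ := hres χ hd
    have h1 : ((⁅a, b⁆ : R) : G) = ((⁅(⟨a, haN⟩ : nor P), ⟨b, hbN⟩⁆ : nor P) : G) := rfl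
    rw [h1, hχ, hθ _ (Subgroup.commutator_mem_commutator ha' hb'), ← hχ 1]
    rfl⟩⟩
  have hnS : Subgroup.normalizer ((S' : Subgroup (R ⧸ KR)) : Set (R ⧸ KR)) ≤
      Subgroup.centralizer ((S' : Subgroup (R ⧸ KR)) : Set (R ⧸ KR)) := by
    refine le_trans (fun q hq => ?_) (@Subgroup.le_centralizer _ _ _ hab)
    obtain ⟨h, rfl⟩ := QuotientGroup.mk'_surjective KR q
    set M := (S : Subgroup R) ⊔ KR with hMdef
    have hconj : ∀ s ∈ (S : Subgroup R), h * s * h⁻¹ ∈ M := by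
      intro s hs
      obtain ⟨t, ht, e⟩ : π (h * s * h⁻¹) ∈ (S : Subgroup R).map π := by
        rw [map_mul, map_mul, map_inv]
        exact (Subgroup.mem_normalizer_iff.mp hq (π s)).mp ⟨s, hs, rfl⟩
      have h2 : t⁻¹ * (h * s * h⁻¹) ∈ KR := QuotientGroup.eq.mp e
      have := mul_mem (Subgroup.mem_sup_left ht : t ∈ M) (Subgroup.mem_sup_right h2 : _ ∈ M)
      rwa [mul_inv_cancel_left] at this
    obtain ⟨m, hm, hmS⟩ := CfsgLib.Transfer.exists_conj_mem_sylow_of_le S (H := M) le_sup_left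
      (S := (S : Subgroup R).map (MulAut.conj h).toMonoidHom) (by
        rintro _ ⟨s, hs, rfl⟩
        exact hconj s hs)
      (S.isPGroup'.map _)
    have hn : ((m * h : R) : G) ∈ R ⊓ nor P := by
      refine ⟨(m * h).2, CfsgLib.Solvable.mem_normalizer_of_conj_mem fun x hx => ?_⟩
      have h1 := hmS _ ⟨⟨x, hPR hx⟩, by rw [SetLike.mem_coe, hS]; exact hx, rfl⟩
      rw [hS] at h1
      have h2 : ((m : G) * ((h : G) * x * (h : G)⁻¹) * (m : G)⁻¹) ∈ (P : Subgroup G) := h1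
      simpa [mul_assoc] using h2
    have hmh : π (m * h) ∈ (S : Subgroup R).map π :=
      ⟨m * h, by rw [hS]; exact hRN hn, rfl⟩
    have hmim : π m ∈ (S : Subgroup R).map π := by
      obtain ⟨s, hs, k, hk, rfl⟩ := Subgroup.mem_sup_of_normal_right.mp hm
      exact ⟨s, hs, by rw [map_mul, show π k = 1 from (QuotientGroup.eq_one_iff k).mpr hk, mul_one]⟩
    rw [map_mul] at hmh
    exact (Subgroup.mul_mem_cancel_left _ hmim).mp hmh
  have hq := (CfsgLib.Transfer.hasNormalPComplement_iff_inf_sylow S').mp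
    (CfsgLib.Transfer.hasNormalPComplement_of_normalizer_le_centralizer S' hnS)
  -- Tate
  have hnpc : Cfsg.HasNormalPComplement 2 R := by
    refine CfsgLib.Transfer.hasNormalPComplement_of_le_frattini S ?_
    rintro x ⟨hxS, hxO⟩
    have h1 : π x ∈ (S' : Subgroup (R ⧸ KR)) ⊓ Cfsg.pResidual 2 (R ⧸ KR) := by
      refine ⟨⟨x, hxS, rfl⟩, ?_⟩
      have hle : (Cfsg.pResidual 2 R).map π ≤ Cfsg.pResidual 2 (R ⧸ KR) := by
        rw [Cfsg.pResidual, MonoidHom.map_closure]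
        refine Subgroup.closure_mono ?_
        rintro _ ⟨y, hy, rfl⟩
        exact Nat.Coprime.coprime_dvd_left (orderOf_map_dvd π y) hy
      exact hle ⟨x, hxO, rfl⟩
    rw [hq, Subgroup.mem_bot] at h1
    have hxK : (x : G) ∈ K := (QuotientGroup.eq_one_iff x).mp h1
    rw [hS] at hxS
    have h2 := hKP ⟨hxK, hxS⟩
    have h3 : ⁅(S : Subgroup R), (S : Subgroup R)⁆.map R.subtype =
        ⁅(P : Subgroup G), (P : Subgroup G)⁆ := by
      rw [Subgroup.map_commutator, hS, Subgroup.subgroupOf_map_subtype, inf_eq_left.mpr hPR]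
    rw [← h3] at h2
    obtain ⟨y, hy, e⟩ := h2
    obtain rfl : y = x := Subtype.ext e
    rw [← Subgroup.map_subtype_commutator] at hy
    exact Subgroup.map_mono (CfsgLib.PGroup.commutator_le_frattini S.isPGroup') hy
  let W : Subgroup G := (Cfsg.pPrimeCore 2 R).map R.subtype
  have hW : W.Normal := CfsgLib.Cores.map_subtype_pPrimeCore_normal 2 R
  refine ⟨W, hW, ?_, ?_⟩
  · rw [eq_bot_iff]
    rintro x ⟨⟨w, hw, rfl⟩, hxN⟩
    have hwP : (w : G) ∈ (P : Subgroup G) := hRN ⟨w.2, hxN⟩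
    obtain ⟨j, hj⟩ := IsPGroup.iff_orderOf.mp P.isPGroup' ⟨_, hwP⟩
    rw [Subgroup.orderOf_mk] at hj
    have h1 : orderOf (w : G) ∣ Nat.card (Cfsg.pPrimeCore 2 R) := by
      have := orderOf_dvd_natCard (⟨w, hw⟩ : Cfsg.pPrimeCore 2 R)
      rwa [← Subgroup.orderOf_coe, ← Subgroup.orderOf_coe] at this
    rw [Subgroup.mem_bot]
    show (w : G) = 1
    rw [← orderOf_eq_one_iff]
    exact Nat.eq_one_of_dvd_coprimes ((CfsgLib.Cores.coprime_card_pPrimeCore 2).symm.pow_left j)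
      (hj ▸ dvd_rfl) h1
  · obtain ⟨N₀, hN₀, hN₀c⟩ := (CfsgLib.Transfer.hasNormalPComplement_iff_sylow S).mp hnpc
    have hle : N₀ ≤ Cfsg.pPrimeCore 2 R :=
      CfsgLib.Cores.le_pPrimeCore (CfsgLib.Transfer.coprime_card_of_isComplement' S hN₀c)
    have hRle : R ≤ W ⊔ nor P := by
      intro x hx
      obtain ⟨a, ha, b, hb, he⟩ := Subgroup.mem_sup_of_normal_left.mp
        (hN₀c.sup_eq_top.symm ▸ Subgroup.mem_top (⟨x, hx⟩ : R) :
          (⟨x, hx⟩ : R) ∈ N₀ ⊔ (S : Subgroup R))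
      rw [hS] at hb
      have := mul_mem (Subgroup.mem_sup_left ⟨a, hle ha, rfl⟩ : (a : G) ∈ W ⊔ nor P)
        (Subgroup.mem_sup_right (Subgroup.le_normalizer hb) : (b : G) ∈ W ⊔ nor P)
      rwa [← Subgroup.coe_mul, he] at this
    rw [eq_top_iff, ← Sylow.normalizer_sup_eq_top' P hPR]
    exact sup_le le_sup_right hRle

end CfsgLib.OddSquares
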