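import Cfsg.Agent.Lib.CharNormal.RealOdd.Basic
import Cfsg.Agent.Lib.Char.PResidualSum

/-!
# The sum of the squares of the odd degrees against the Sylow normalizer

Every character of `N = N_G(P)` which is trivial on `P'` has odd degree, so some character of odd
degree of `G` lies over it; hence `|N : P'| ≤ ∑ χ(1)²`, and in the case of equality restriction
maps the characters of odd degree onto those characters of `N`.
-/

set_option autoImplicit false

namespace CfsgLib.OddSquares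

open CfsgLib.Char CfsgLib.CharNormal CfsgLib.RealOdd
open scoped commutatorElement

variable {H : Type*} [Group H] [Finite H]

theorem cast_charDegree (χ : Cfsg.IrrCharacter H) :
    (χ : H → ℂ) 1 = (Cfsg.charDegree (χ : H → ℂ) : ℂ) :=
  charDegree_cast (isCharacter_of_isIrr χ.2)

theorem charDegree_pos (χ : Cfsg.IrrCharacter H) : 0 < Cfsg.charDegree (χ : H → ℂ) := by
  rcases Nat.eq_zero_or_pos (Cfsg.charDegree (χ : H → ℂ)) with h | h
  · exact absurd (by rw [cast_charDegree χ, h, Nat.cast_zero]) (irr_one_ne_zero χ.2)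
  · exact h

theorem oddDeg_iff (χ : Cfsg.IrrCharacter H) :
    OddDeg (χ : H → ℂ) ↔ ¬ 2 ∣ Cfsg.charDegree (χ : H → ℂ) := by
  rw [← even_iff_two_dvd, Nat.not_even_iff_odd]
  constructor
  · rintro ⟨n, hn, hn1⟩
    obtain rfl : n = Cfsg.charDegree (χ : H → ℂ) := by
      exact_mod_cast hn1.symm.trans (cast_charDegree χ)
    exact hn
  · exact fun h => ⟨_, h, cast_charDegree χ⟩

/-- A character of odd degree kills the derived subgroup of a normal 2-subgroup. -/
theorem trivial_commutator_of_odd (Q : Subgroup H) [Q.Normal] (hQ : IsPGroup 2 Q)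
    {θ : H → ℂ} (hθ : Cfsg.IsIrrCharacter H θ) (hd : OddDeg θ) :
    ∀ x ∈ ⁅Q, Q⁆, θ x = θ 1 := by
  intro x hx
  have := Fintype.ofFinite H
  have := Fintype.ofFinite Q
  obtain ⟨l, hl, -⟩ := exists_linear_of_odd hQ (isCharacter_res Q (isCharacter_of_isIrr hθ))
    (by simpa [OddDeg] using hd)
  have hker : ⁅Q, Q⁆ ≤ l.ker.map Q.subtype := Subgroup.commutator_le.mpr fun a ha b hb =>
    ⟨⁅(⟨a, ha⟩ : Q), ⟨b, hb⟩⁆, by
      show l _ = 1
      rw [map_commutatorElement, commutatorElement_eq_one_iff_mul_comm, mul_comm], rfl⟩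
  have hxQ : x ∈ Q := Subgroup.commutator_le_left Q Q hx
  have key : ∀ ψ ∈ orbit Q ⟨linFun l, isCharacter_linFun' l⟩, (ψ : Q → ℂ) ⟨x, hxQ⟩ = (ψ : Q → ℂ) 1 := by
    intro ψ hψ
    obtain ⟨g, hg⟩ := (mem_orbit Q).mp hψ
    rw [← hg, conjFun_apply_one, conjFun_apply]
    show linFun l _ = linFun l 1
    rw [(isCharacter_linFun l).2, linFun_apply]
    obtain ⟨y, hy, hy'⟩ := hker ((inferInstance : (⁅Q, Q⁆).Normal).conj_mem x hx g)
    rw [show (⟨g * x * g⁻¹, ‹Q.Normal›.conj_mem x hxQ g⟩ : Q) = y from Subtype.ext hy'.symm,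
      show l y = 1 from hy, Units.val_one]
  have h := res_eq_smul_sum_orbit Q hθ ⟨linFun l, isCharacter_linFun' l⟩ hl
  have h1 := congrFun h ⟨x, hxQ⟩
  have h2 := congrFun h 1
  simp only [Pi.smul_apply, Finset.sum_apply] at h1 h2
  rw [Finset.sum_congr rfl key, ← h2] at h1
  exact h1

variable {G : Type*} [Group G] [Finite G] (P : Sylow 2 G)

/-- The Sylow normalizer. -/
abbrev nor : Subgroup G := Subgroup.normalizer ((P : Subgroup G) : Set G)

/-- The Sylow subgroup inside its normalizer. -/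
abbrev syl : Subgroup (nor P) := (P : Subgroup G).subgroupOf (nor P)

instance syl_normal : (syl P).Normal := Subgroup.normal_in_normalizer

/-- The derived subgroup of the Sylow subgroup inside the normalizer. -/
abbrev der : Subgroup (nor P) := ⁅syl P, syl P⁆

theorem syl_isPGroup : IsPGroup 2 (syl P) :=
  P.isPGroup'.of_equiv (Subgroup.subgroupOfEquivOfLe Subgroup.le_normalizer).symm

theorem map_der : (der P).map (nor P).subtype = ⁅(P : Subgroup G), (P : Subgroup G)⁆ := by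
  rw [Subgroup.map_commutator, Subgroup.subgroupOf_map_subtype,
    inf_eq_left.mpr Subgroup.le_normalizer]

theorem card_der : Nat.card (der P) = Nat.card (commutator (P : Subgroup G)) := by
  rw [← Subgroup.card_map_of_injective (K := der P) (nor P).subtype_injective, map_der,
    ← Subgroup.map_subtype_commutator, Subgroup.card_map_of_injective (Subgroup.subtype_injective _)]

/-- Characters of the normalizer trivial on `P'` have odd degree. -/
theorem oddDeg_of_trivial_der (θ : Cfsg.IrrCharacter (nor P))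
    (hθ : ∀ n ∈ der P, (θ : nor P → ℂ) n = (θ : nor P → ℂ) 1) : OddDeg (θ : nor P → ℂ) := by
  have := Fintype.ofFinite (nor P)
  have := Fintype.ofFinite (nor P ⧸ der P)
  obtain ⟨β, hβ, he⟩ := exists_irr_eq_comp_mk' (der P) θ.2 hθ
  have : ((syl P).map (QuotientGroup.mk' (der P))).Normal :=
    (syl_normal P).map _ (QuotientGroup.mk'_surjective _)
  have hd := degree_dvd_index_abelian_normal ((syl P).map (QuotientGroup.mk' (der P))) (by
    rintro _ ⟨a, ha, rfl⟩ _ ⟨b, hb, rfl⟩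
    rw [← commutatorElement_eq_one_iff_mul_comm, ← map_commutatorElement]
    exact (QuotientGroup.eq_one_iff _).mpr (Subgroup.commutator_mem_commutator ha hb)) hβ
    (c := Cfsg.charDegree (θ : nor P → ℂ)) (by
      rw [← cast_charDegree θ, ← congrFun he 1]; rfl)
  refine ⟨_, ?_, cast_charDegree θ⟩
  have hodd : Odd (P : Subgroup G).index := by
    rw [← Nat.not_even_iff_odd, even_iff_two_dvd]
    exact P.not_dvd_index
  exact hodd.of_dvd_nat ((hd.trans ((syl P).index_map_dvd (QuotientGroup.mk'_surjective _))).trans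
    (Subgroup.relIndex_dvd_index_of_le Subgroup.le_normalizer))

theorem sum_sq_trivial_der [Fintype (Cfsg.IrrCharacter (nor P))]
    [DecidablePred fun θ : Cfsg.IrrCharacter (nor P) =>
      ∀ n ∈ der P, (θ : nor P → ℂ) n = (θ : nor P → ℂ) 1] :
    Nat.card (commutator (P : Subgroup G)) *
      (∑ θ ∈ Finset.univ.filter fun θ : Cfsg.IrrCharacter (nor P) =>
        ∀ n ∈ der P, (θ : nor P → ℂ) n = (θ : nor P → ℂ) 1,
        Cfsg.charDegree (θ : nor P → ℂ) ^ 2) = Nat.card (nor P) := by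
  classical
  have := Fintype.ofFinite (nor P)
  have := Fintype.ofFinite (nor P ⧸ der P)
  rw [Subgroup.card_eq_card_quotient_mul_card_subgroup (der P), card_der, mul_comm]
  congr 1
  apply Nat.cast_injective (R := ℂ)
  rw [Finset.sum_subtype (p := fun θ : Cfsg.IrrCharacter (nor P) =>
    ∀ n ∈ der P, (θ : nor P → ℂ) n = (θ : nor P → ℂ) 1) _ (fun θ => by simp)]
  push_cast
  rw [← sum_degree_sq (G := nor P ⧸ der P)]
  refine (Fintype.sum_equiv (inflEquiv (der P)) _ _ fun β => ?_).symm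
  rw [← cast_charDegree, inflEquiv_apply, QuotientGroup.mk_one]

/-- Some character of odd degree lies over each character of odd degree of a subgroup of odd
index. -/
theorem exists_over_of_odd [Fintype G] (L : Subgroup G) [Fintype L] (hL : Odd L.index)
    {θ : L → ℂ} (hθ : Cfsg.IsIrrCharacter L θ) (hd : OddDeg θ) :
    ∃ χ : Cfsg.IrrCharacter G, OddDeg (χ : G → ℂ) ∧
      Cfsg.classInner (fun n : L => (χ : G → ℂ) n) θ ≠ 0 := by
  classical
  obtain ⟨m, hm, hmi⟩ := char_decomp (isCharacter_indFun L (isCharacter_of_isIrr hθ))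
  obtain ⟨n, hn, hn1⟩ := hd
  have hsum : L.index * n = ∑ χ : Cfsg.IrrCharacter G, m χ * Cfsg.charDegree (χ : G → ℂ) := by
    have h1 := congrFun hm 1
    rw [indFun_one, hn1] at h1
    simp only [Finset.sum_apply, Pi.smul_apply, smul_eq_mul, cast_charDegree] at h1
    exact_mod_cast h1
  by_contra hcon
  push Not at hcon
  refine Nat.not_even_iff_odd.mpr (hL.mul hn) ?_
  rw [hsum]
  refine Finset.even_sum _ fun χ _ => ?_
  by_cases h0 : m χ = 0
  · simp [h0]
  · refine Nat.even_mul.mpr (Or.inr (Nat.not_odd_iff_even.mp fun ho => ?_))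
    have h1 := hcon χ ⟨_, ho, cast_charDegree χ⟩
    rw [← frobenius_reciprocity' L θ (isClassFunction_of_isIrr χ.2), ← classInner_conj_symm,
      hmi, map_natCast, Nat.cast_eq_zero] at h1
    exact h0 h1

theorem exists_over_nor [Fintype G] [Fintype (nor P)] (θ : Cfsg.IrrCharacter (nor P))
    (hθ : ∀ n ∈ der P, (θ : nor P → ℂ) n = (θ : nor P → ℂ) 1) :
    ∃ χ : Cfsg.IrrCharacter G, ¬ 2 ∣ Cfsg.charDegree (χ : G → ℂ) ∧
      Cfsg.classInner (fun n : nor P => (χ : G → ℂ) n) (θ : nor P → ℂ) ≠ 0 := by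
  obtain ⟨χ, hd, h⟩ := exists_over_of_odd (nor P) (by
    rw [← Nat.not_even_iff_odd, even_iff_two_dvd]
    exact fun h => P.not_dvd_index (h.trans (Subgroup.index_dvd_of_le Subgroup.le_normalizer)))
    θ.2 (oddDeg_of_trivial_der P θ hθ)
  exact ⟨χ, (oddDeg_iff χ).mp hd, h⟩

/-- A sum of squares bounded by the square of the sum. -/
theorem sum_sq_bound {ι : Type*} (s : Finset ι) (d : ι → ℕ) (hd : ∀ i ∈ s, 0 < d i) {D : ℕ}
    (hD : ∑ i ∈ s, d i ≤ D) :
    ∑ i ∈ s, d i ^ 2 ≤ D ^ 2 ∧ (∑ i ∈ s, d i ^ 2 = D ^ 2 → ∀ i ∈ s, d i = D) := by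
  have h1 : ∀ i ∈ s, d i ^ 2 ≤ d i * D := fun i hi => by
    rw [sq]
    exact Nat.mul_le_mul le_rfl ((Finset.single_le_sum (fun j _ => Nat.zero_le (d j)) hi).trans hD)
  have h2 : ∑ i ∈ s, d i * D ≤ D ^ 2 := by
    rw [← Finset.sum_mul, sq]
    exact Nat.mul_le_mul hD le_rfl
  refine ⟨(Finset.sum_le_sum h1).trans h2, fun h i hi => ?_⟩
  by_contra hne
  have hlt : d i ^ 2 < d i * D := by
    rw [sq]
    exact Nat.mul_lt_mul_of_pos_left (lt_of_le_of_ne
      ((Finset.single_le_sum (fun j _ => Nat.zero_le (d j)) hi).trans hD) hne) (hd i hi)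
  exact ((Finset.sum_lt_sum h1 ⟨i, hi, hlt⟩).trans_le h2).ne h

variable [Fintype G] [Fintype (nor P)]

open scoped Classical in
theorem le_sum_sq :
    Nat.card (nor P) ≤ Nat.card (commutator (P : Subgroup G)) *
      ∑ χ ∈ Finset.univ.filter fun χ : Cfsg.IrrCharacter G =>
        ¬ 2 ∣ Cfsg.charDegree (χ : G → ℂ), Cfsg.charDegree (χ : G → ℂ) ^ 2 ∧
    (Nat.card (nor P) = Nat.card (commutator (P : Subgroup G)) *
      ∑ χ ∈ Finset.univ.filter fun χ : Cfsg.IrrCharacter G =>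
        ¬ 2 ∣ Cfsg.charDegree (χ : G → ℂ), Cfsg.charDegree (χ : G → ℂ) ^ 2 →
      ∀ χ : Cfsg.IrrCharacter G, ¬ 2 ∣ Cfsg.charDegree (χ : G → ℂ) →
        ∃ θ : Cfsg.IrrCharacter (nor P),
          (∀ n ∈ der P, (θ : nor P → ℂ) n = (θ : nor P → ℂ) 1) ∧
          ∀ n : nor P, (χ : G → ℂ) n = (θ : nor P → ℂ) n) := by
  choose m hm hmi using fun χ : Cfsg.IrrCharacter G =>
    char_decomp (isCharacter_res (nor P) (isCharacter_of_isIrr χ.2))
  have hdeg : ∀ χ : Cfsg.IrrCharacter G, Cfsg.charDegree (χ : G → ℂ) =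
      ∑ θ : Cfsg.IrrCharacter (nor P), m χ θ * Cfsg.charDegree (θ : nor P → ℂ) := by
    intro χ
    have h1 := congrFun (hm χ) 1
    simp only [Finset.sum_apply, Pi.smul_apply, smul_eq_mul, cast_charDegree, Subgroup.coe_one] at h1
    exact_mod_cast h1
  set Θ := Finset.univ.filter fun θ : Cfsg.IrrCharacter (nor P) =>
    ∀ n ∈ der P, (θ : nor P → ℂ) n = (θ : nor P → ℂ) 1 with hΘ
  set Ω := Finset.univ.filter fun χ : Cfsg.IrrCharacter G =>
    ¬ 2 ∣ Cfsg.charDegree (χ : G → ℂ) with hΩ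
  let F : Cfsg.IrrCharacter G → Finset (Cfsg.IrrCharacter (nor P)) := fun χ =>
    Θ.filter fun θ => m χ θ ≠ 0
  have hF : ∀ χ, ∑ θ ∈ F χ, Cfsg.charDegree (θ : nor P → ℂ) ≤ Cfsg.charDegree (χ : G → ℂ) := by
    intro χ
    rw [hdeg χ]
    refine le_trans (Finset.sum_le_sum fun θ hθ => ?_)
      (Finset.sum_le_sum_of_subset (Finset.subset_univ (F χ)))
    exact Nat.le_mul_of_pos_left _ (Nat.pos_of_ne_zero (Finset.mem_filter.mp hθ).2)
  have hb := fun χ => sum_sq_bound (F χ) _ (fun θ _ => charDegree_pos θ) (hF χ)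
  have h1 : ∑ θ ∈ Θ, Cfsg.charDegree (θ : nor P → ℂ) ^ 2 ≤
      ∑ χ ∈ Ω, ∑ θ ∈ F χ, Cfsg.charDegree (θ : nor P → ℂ) ^ 2 := by
    simp only [F, Finset.sum_filter]
    rw [Finset.sum_comm]
    refine Finset.sum_le_sum fun θ hθ => ?_
    obtain ⟨χ, hd, h⟩ := exists_over_nor P θ (Finset.mem_filter.mp hθ).2
    refine le_trans ?_ (Finset.single_le_sum (fun _ _ => Nat.zero_le _)
      (Finset.mem_filter.mpr ⟨Finset.mem_univ χ, hd⟩))
    rw [if_pos]
    intro h0
    exact h (by rw [hmi χ θ, h0, Nat.cast_zero])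
  have h2 : ∑ χ ∈ Ω, ∑ θ ∈ F χ, Cfsg.charDegree (θ : nor P → ℂ) ^ 2 ≤
      ∑ χ ∈ Ω, Cfsg.charDegree (χ : G → ℂ) ^ 2 := Finset.sum_le_sum fun χ _ => (hb χ).1
  rw [← sum_sq_trivial_der P]
  refine ⟨Nat.mul_le_mul le_rfl (h1.trans h2), fun he χ hχ => ?_⟩
  have he' := Nat.eq_of_mul_eq_mul_left Nat.card_pos he
  have h3 := (Finset.sum_eq_sum_iff_of_le fun χ _ => (hb χ).1).mp
    (le_antisymm h2 (he' ▸ h1)) χ (Finset.mem_filter.mpr ⟨Finset.mem_univ χ, hχ⟩)
  obtain ⟨θ, hθ⟩ : (F χ).Nonempty := by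
    rw [Finset.nonempty_iff_ne_empty]
    intro h0
    rw [h0, Finset.sum_empty] at h3
    have := pow_pos (charDegree_pos χ) 2
    omega
  have hdθ := (hb χ).2 h3 θ hθ
  obtain ⟨hθT, hmθ⟩ := Finset.mem_filter.mp hθ
  refine ⟨θ, (Finset.mem_filter.mp hθT).2, fun n => ?_⟩
  have h4 := hdeg χ
  rw [← Finset.add_sum_erase _ _ (Finset.mem_univ θ), hdθ] at h4
  have hm1 : m χ θ = 1 := by
    by_contra hne
    have : 2 * Cfsg.charDegree (χ : G → ℂ) ≤ m χ θ * Cfsg.charDegree (χ : G → ℂ) :=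
      Nat.mul_le_mul (by omega) le_rfl
    have := charDegree_pos χ
    omega
  have hrest : ∀ φ, φ ≠ θ → m χ φ = 0 := fun φ hφ => by
    have hz : ∑ ψ ∈ Finset.univ.erase θ, m χ ψ * Cfsg.charDegree (ψ : nor P → ℂ) = 0 := by
      rw [hm1, one_mul] at h4; omega
    exact (mul_eq_zero.mp (Finset.sum_eq_zero_iff.mp hz φ
      (Finset.mem_erase.mpr ⟨hφ, Finset.mem_univ φ⟩))).resolve_right (charDegree_pos φ).ne'
  have h5 := congrFun (hm χ) n
  rw [Finset.sum_apply, Finset.sum_eq_single θ (fun φ _ hφ => by simp [hrest φ hφ]) (by simp)] at h5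
  simpa [hm1] using h5

end CfsgLib.OddSquares
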